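import Groth.Agent.Lib.NormalTensor.BaseChange
import Groth.Agent.Lib.Excellent.NormalAscent
import Groth.Agent.Lib.Smoothing.Popescu.Main
import Mathlib

/-!
# Descent of normality along a finite extension after a flat base change
-/

set_option linter.style.haveILetI false
set_option autoImplicit false

universe u

open TensorProduct Polynomial
open scoped nonZeroDivisors

namespace Groth.Agent.H19.IntClosBC.FlatDescent

open Groth.Agent.Lib

/-- In a normal ring an element satisfying an integral equation is divisible, up to annihilators. -/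
theorem exists_mul_eq_of_eval_scaleRoots {T : Type u} [CommRing T] (hT : EGA4.IsNormalRing T) {a b : T}
    {p : T[X]} (hp : p.Monic) (h : (p.scaleRoots b).eval a = 0) : ∃ c, b * a = b * b * c := by
  let D : Ideal T :=
    { carrier := {r | b * b ∣ r * (b * a)}
      add_mem' := fun {r s} hr hs => by
        show b * b ∣ (r + s) * (b * a)
        rw [add_mul]; exact dvd_add hr hs
      zero_mem' := by show b * b ∣ (0 : T) * (b * a); simp
      smul_mem' := fun c r hr => by
        show b * b ∣ c * r * (b * a)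
        rw [mul_assoc]; exact hr.mul_left c }
  suffices hD : D = ⊤ by
    have h1 : b * b ∣ (1 : T) * (b * a) := (Ideal.eq_top_iff_one D).1 hD
    rwa [one_mul] at h1
  by_contra hne
  obtain ⟨m, hm, hle⟩ := D.exists_le_maximal hne
  haveI := hm.isPrime
  obtain ⟨_, _⟩ := hT m
  let L := Localization.AtPrime m
  let K := FractionRing L
  have hb0 : algebraMap T L b ≠ 0 := fun h0 => by
    obtain ⟨⟨s, hs⟩, hsb⟩ := (IsLocalization.map_eq_zero_iff m.primeCompl _ _).1 h0
    have hsb' : s * b = 0 := hsb
    refine hs (hle ?_)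
    show b * b ∣ s * (b * a)
    rw [← mul_assoc, hsb', zero_mul]
    exact dvd_zero _
  let φ : T →+* K := (algebraMap L K).comp (algebraMap T L)
  have hbK : φ b ≠ 0 := (map_ne_zero_iff _ (IsFractionRing.injective L K)).2 hb0
  have h1 : Polynomial.eval₂ φ (φ a) (p.scaleRoots b) = 0 := by
    rw [Polynomial.eval₂_at_apply, h, map_zero]
  rw [show φ a = φ b * (φ a / φ b) from (mul_div_cancel₀ _ hbK).symm, scaleRoots_eval₂_mul] at h1
  have h2 : IsIntegral L (φ a / φ b) := by
    refine ⟨p.map (algebraMap T L), hp.map _, ?_⟩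
    rw [Polynomial.eval₂_map]
    exact (mul_eq_zero.1 h1).resolve_left (pow_ne_zero _ hbK)
  obtain ⟨w, hw⟩ := (isIntegrallyClosed_iff K).1 inferInstance h2
  obtain ⟨c, s, rfl⟩ := IsLocalization.exists_mk'_eq m.primeCompl w
  have h3 : algebraMap T L (a * s) = algebraMap T L (b * c) := by
    apply IsFractionRing.injective L K
    rw [eq_div_iff hbK] at hw
    change φ (a * s) = φ (b * c)
    rw [map_mul, ← hw, map_mul]
    change algebraMap L K (IsLocalization.mk' L c s) * algebraMap L K (algebraMap T L b) *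
      algebraMap L K (algebraMap T L s) = algebraMap L K (algebraMap T L b) * algebraMap L K (algebraMap T L c)
    rw [← IsLocalization.mk'_spec L c s, map_mul]
    ring
  obtain ⟨u, hu⟩ := IsLocalization.exists_of_eq (M := m.primeCompl) h3
  refine (m.primeCompl.mul_mem u.2 s.2) (hle ?_)
  show b * b ∣ (u : T) * s * (b * a)
  exact ⟨u * c, by linear_combination b * hu⟩

variable {B : Type u} (C T : Type u) [CommRing B] [CommRing C] [CommRing T] [Algebra B C] [Algebra B T]

/-- The quotient by the base and the torsion is torsion free when the base is normal. -/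
theorem mem_of_smul_mem (hB : EGA4.IsNormalRing B) [Module.Finite B C]
    (hinj : Function.Injective (algebraMap B C)) {σ : B} (hσ : σ ∈ B⁰) {x : C}
    (hx : σ • x ∈ Submodule.span B ({1} : Set C) ⊔ Submodule.torsion B C) :
    x ∈ Submodule.span B ({1} : Set C) ⊔ Submodule.torsion B C := by
  obtain ⟨y, hy, k, hk, hyk⟩ := Submodule.mem_sup.mp hx
  obtain ⟨β, rfl⟩ := Submodule.mem_span_singleton.mp hy
  obtain ⟨τ, hτ⟩ := (Submodule.mem_torsion_iff k).mp hk
  have e1 : ((τ : B) * σ) • x = algebraMap B C ((τ : B) * β) := by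
    have hτ' : (τ : B) • k = 0 := hτ
    rw [mul_smul, ← hyk, smul_add, hτ', add_zero, ← mul_smul, Algebra.algebraMap_eq_smul_one]
  obtain ⟨p, hp, hpx⟩ := Algebra.IsIntegral.isIntegral (R := B) x
  have h : (p.scaleRoots ((τ : B) * σ)).eval ((τ : B) * β) = 0 := by
    apply hinj
    rw [map_zero, ← Polynomial.eval₂_at_apply, ← e1, Algebra.smul_def, scaleRoots_eval₂_mul, hpx, mul_zero]
  obtain ⟨β', hβ'⟩ := NormalTensor.Basic.dvd_of_eval_scaleRoots hB (mul_mem τ.2 hσ) hp h
  rw [show x = β' • (1 : C) + (x - β' • 1) by abel]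
  refine add_mem (Submodule.mem_sup_left (Submodule.smul_mem _ _ (Submodule.mem_span_singleton_self 1)))
    (Submodule.mem_sup_right ((Submodule.mem_torsion_iff _).mpr ⟨⟨_, mul_mem τ.2 hσ⟩, ?_⟩))
  show ((τ : B) * σ) • (x - β' • (1 : C)) = 0
  rw [smul_sub, e1, ← mul_smul, ← hβ', Algebra.algebraMap_eq_smul_one, sub_self]

/-- If the base change of a finite extension of a normal ring is normal, so is the base change ring. -/
theorem isNormalRing_of_tensor [IsNoetherianRing B] [IsNoetherianRing T] [Module.Flat B T]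
    (hB : EGA4.IsNormalRing B) [Module.Finite B C] (hinj : Function.Injective (algebraMap B C))
    (h : EGA4.IsNormalRing (C ⊗[B] T)) : EGA4.IsNormalRing T := by
  classical
  haveI : IsReduced B := NormalTensor.Basic.isReduced_of_isNormalRing hB
  let M := Algebra.algebraMapSubmonoid T B⁰
  let L := Localization M
  let Q := FractionRing B
  haveI : IsArtinianRing Q := Smoothing.Popescu.Main.isArtinianRing_fractions B Q
  haveI : IsReduced Q := isReduced_localizationPreserves B⁰ Q inferInstance
  haveI : IsSemisimpleRing Q := IsArtinianRing.isSemisimpleRing_of_isReduced Q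
  have hMnzd : M ≤ T⁰ := by
    rintro _ ⟨b, hb, rfl⟩
    refine mem_nonZeroDivisors_iff_right.mpr fun z hz => ?_
    have hreg : IsSMulRegular B b := fun u v (huv : b * u = b * v) =>
      mul_cancel_left_mem_nonZeroDivisors hb |>.mp huv
    exact (IsSMulRegular.of_flat (S := T) hreg).right_eq_zero_of_smul
      (show algebraMap B T b • z = 0 by rw [smul_eq_mul, mul_comm]; exact hz)
  have hTL : Function.Injective (algebraMap T L) := IsLocalization.injective L hMnzd
  have hunit : ∀ y : B⁰, IsUnit (algebraMap B L y) := fun y => by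
    rw [IsScalarTower.algebraMap_apply B T L]
    exact IsLocalization.map_units L (⟨_, (y : B), y.2, rfl⟩ : M)
  letI : Algebra Q L := (IsLocalization.lift (M := B⁰) (S := Q) hunit).toAlgebra
  haveI : IsScalarTower B Q L := IsScalarTower.of_algebraMap_eq fun x =>
    (IsLocalization.lift_eq hunit x).symm
  -- the localization is normal
  have hX : EGA4.IsNormalRing (L ⊗[B] C) := by
    letI : Algebra (C ⊗[B] T) (C ⊗[B] L) :=
      (Algebra.TensorProduct.map (AlgHom.id B C) (IsScalarTower.toAlgHom B T L)).toRingHom.toAlgebra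
    haveI : IsScalarTower C (C ⊗[B] T) (C ⊗[B] L) :=
      .of_algebraMap_eq fun x => by simp [RingHom.algebraMap_toAlgebra]
    haveI := IsLocalization.tensorProduct_tensorProduct_right B C M L
      (by ext; simp [RingHom.algebraMap_toAlgebra])
    exact NormalTensor.Basic.isNormalRing_congr (Algebra.TensorProduct.comm B C L).toRingEquiv
      (Excellent.NormalRing.isNormalRing_of_isLocalization
        (M.map (Algebra.TensorProduct.includeRight (R := B) (A := C))) h)
  haveI hff : Module.FaithfullyFlat Q (Q ⊗[B] C) := by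
    haveI : Module.Flat B Q := IsLocalization.flat Q B⁰
    haveI : Module.Projective Q (Q ⊗[B] C) := Module.projective_of_isSemisimpleRing Q _
    haveI : Module.Flat Q (Q ⊗[B] C) := Module.Flat.of_projective
    refine Module.FaithfullyFlat.of_comap_surjective ?_
    haveI : FaithfulSMul Q (Q ⊗[B] C) :=
      (faithfulSMul_iff_algebraMap_injective _ _).mpr
        (Algebra.TensorProduct.includeLeft_injective (S := Q) (A := Q) hinj)
    exact Algebra.IsIntegral.comap_surjective _ _
  haveI : Module.FaithfullyFlat L (L ⊗[B] C) := Module.FaithfullyFlat.of_linearEquiv L (L ⊗[Q] (Q ⊗[B] C))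
    (Algebra.TensorProduct.cancelBaseChange B Q L L C).toLinearEquiv.symm
  have hL : EGA4.IsNormalRing L := NormalTensor.Field.isNormalRing_of_faithfullyFlat hX
  refine Excellent.NormalAscent.isNormalRing_of_intClosedIn T L M hTL hL fun y hy => ?_
  obtain ⟨b₀, ⟨_, σ, hσ, rfl⟩, rfl⟩ := IsLocalization.exists_mk'_eq M y
  obtain ⟨p, hp, hpy⟩ := hy
  set s : T := algebraMap B T σ with hs
  have hsM : s ∈ M := ⟨σ, hσ, rfl⟩
  have h0 : (p.scaleRoots s).eval b₀ = 0 := by
    apply hTL
    rw [map_zero, ← Polynomial.eval₂_at_apply, ← IsLocalization.mk'_spec' L b₀ ⟨s, hsM⟩,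
      scaleRoots_eval₂_mul, hpy, mul_zero]
  let ι : T →ₐ[B] C ⊗[B] T := Algebra.TensorProduct.includeRight
  have hι : Function.Injective ι := Algebra.TensorProduct.includeRight_injective hinj
  obtain ⟨c, hc⟩ := exists_mul_eq_of_eval_scaleRoots h (p := p.map ι.toRingHom) (a := ι b₀) (b := ι s)
    (hp.map _) (by
      show (scaleRoots (p.map ι.toRingHom) (ι.toRingHom s)).eval (ι.toRingHom b₀) = 0
      rcases subsingleton_or_nontrivial (C ⊗[B] T) with hsub | hsub
      · exact Subsingleton.elim _ _
      rw [← map_scaleRoots p s ι.toRingHom (by rw [hp.leadingCoeff, map_one]; exact one_ne_zero),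
        Polynomial.eval_map, Polynomial.eval₂_at_apply, h0, map_zero])
  let S := Submodule.span B ({1} : Set C) ⊔ Submodule.torsion B C
  have hιs : ∀ z, ι s * z = σ • z := fun z => by
    rw [hs, AlgHom.commutes, Algebra.smul_def]
  have hc' : σ • ι b₀ = (σ * σ) • c := by rw [mul_smul, ← hιs, ← hιs, ← hιs, hc, mul_assoc]
  have hqι : ∀ t, S.mkQ.rTensor T (ι t) = 0 := fun t => by
    show S.mkQ 1 ⊗ₜ[B] t = 0
    rw [show S.mkQ 1 = 0 from (Submodule.Quotient.mk_eq_zero _).mpr
      (Submodule.mem_sup_left (Submodule.mem_span_singleton_self 1)), TensorProduct.zero_tmul]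
  have hreg : IsSMulRegular ((C ⧸ S) ⊗[B] T) (σ * σ) := by
    have h1 : Function.Injective (((σ * σ) • LinearMap.id : (C ⧸ S) →ₗ[B] (C ⧸ S))) := by
      refine (injective_iff_map_eq_zero _).mpr fun x hx => ?_
      obtain ⟨x, rfl⟩ := Submodule.Quotient.mk_surjective _ x
      exact (Submodule.Quotient.mk_eq_zero _).mpr
        (mem_of_smul_mem C hB hinj (mul_mem hσ hσ) ((Submodule.Quotient.mk_eq_zero _).mp hx))
    have h2 := Module.Flat.rTensor_preserves_injective_linearMap (M := T) _ h1
    intro u v huv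
    apply h2
    rw [LinearMap.rTensor_smul, LinearMap.rTensor_id]
    exact huv
  have hqc : S.mkQ.rTensor T c = 0 := hreg (by
    show (σ * σ) • S.mkQ.rTensor T c = (σ * σ) • (0 : (C ⧸ S) ⊗[B] T)
    rw [smul_zero, ← map_smul, ← hc', map_smul, hqι, smul_zero])
  obtain ⟨w, hw⟩ := (rTensor_exact T (LinearMap.exact_subtype_mkQ S) (Submodule.mkQ_surjective S) c).mp hqc
  obtain ⟨b, τ, hτ, hb⟩ : ∃ b, ∃ τ ∈ B⁰, τ • (S.subtype.rTensor T w - ι b) = 0 := by
    clear hw
    induction w using TensorProduct.induction_on with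
    | zero => exact ⟨0, 1, one_mem _, by simp⟩
    | tmul x t =>
      obtain ⟨y, hy, k, hk, hyk⟩ := Submodule.mem_sup.mp x.2
      obtain ⟨β, rfl⟩ := Submodule.mem_span_singleton.mp hy
      obtain ⟨τ, hτ⟩ := (Submodule.mem_torsion_iff k).mp hk
      have hτ' : (τ : B) • k = 0 := hτ
      refine ⟨β • t, τ, τ.2, ?_⟩
      show (τ : B) • ((x : C) ⊗ₜ[B] t - (1 : C) ⊗ₜ[B] (β • t)) = 0
      rw [TensorProduct.tmul_smul, TensorProduct.smul_tmul', ← TensorProduct.sub_tmul, ← hyk,
        add_sub_cancel_left, TensorProduct.smul_tmul', hτ', TensorProduct.zero_tmul]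
    | add u v hu hv =>
      obtain ⟨b₁, τ₁, h₁, e₁⟩ := hu
      obtain ⟨b₂, τ₂, h₂, e₂⟩ := hv
      refine ⟨b₁ + b₂, τ₁ * τ₂, mul_mem h₁ h₂, ?_⟩
      rw [map_add, map_add, add_sub_add_comm, smul_add]
      nth_rw 1 [mul_comm τ₁ τ₂]
      rw [mul_smul, mul_smul, e₁, e₂, smul_zero, smul_zero, add_zero]
  rw [hw] at hb
  refine ⟨b, ?_⟩
  have h5 : (τ * σ) • b₀ = (τ * (σ * σ)) • b := by
    apply hι
    rw [smul_sub, sub_eq_zero] at hb
    rw [map_smul, map_smul, mul_smul, hc', smul_comm, hb, ← mul_smul, mul_comm]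
  have hu : IsUnit (algebraMap B L (τ * σ)) := hunit ⟨_, mul_mem hτ hσ⟩
  refine hu.mul_left_cancel ?_
  have h6 := congrArg (algebraMap T L) h5
  simp only [Algebra.smul_def, map_mul, ← IsScalarTower.algebraMap_apply B T L] at h6
  rw [← IsLocalization.mk'_spec L b₀ ⟨s, hsM⟩] at h6
  have hsL : algebraMap T L s = algebraMap B L σ := (IsScalarTower.algebraMap_apply B T L σ).symm
  rw [hsL] at h6
  refine (hunit ⟨σ, hσ⟩).mul_left_cancel ?_
  simp only [map_mul] at h6 ⊢
  linear_combination (-1 : L) * h6

end Groth.Agent.H19.IntClosBC.FlatDescent
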